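import Mathlib
import Groth.Prelude.Def_PBC
import Groth.Prelude.Def_EtCore
import Groth.Agent.S6642
set_option autoImplicit false
universe u
open CategoryTheory CategoryTheory.Limits AlgebraicGeometry Topology

namespace Groth.Agent.H24.EtCons

theorem flc_of_iso {X : Scheme.{u}} {F G : EtCoh.Ab X} (e : F ≅ G)
    (hF : EtCoh.IsFiniteLocallyConstant F) : EtCoh.IsFiniteLocallyConstant G := by
  obtain ⟨ι, U, hU, h⟩ := hF
  refine ⟨ι, U, hU, fun i => ?_⟩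
  obtain ⟨M, hM, hfin, ⟨a⟩⟩ := h i
  exact ⟨M, hM, hfin,
    ⟨((X.smallEtaleTopology.overPullback AddCommGrpCat.{u + 1} (U i)).mapIso e).symm ≪≫ a⟩⟩

theorem flc_pull_comp {X T T' : Scheme.{u}} (F : EtCoh.Ab X) (g : T ⟶ X) (h : T' ⟶ T)
    (hg : EtCoh.IsFiniteLocallyConstant ((EtCoh.pull g).obj F)) :
    EtCoh.IsFiniteLocallyConstant ((EtCoh.pull (h ≫ g)).obj F) :=
  flc_of_iso ((EtCore.pullComp h g).app F).symm ((Groth.Agent.S6642.result h).2.1 _ hg)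

theorem flc_of_pull_pull {X W T : Scheme.{u}} (F : EtCoh.Ab X) (j : W ⟶ X) (g : T ⟶ W)
    (hg : EtCoh.IsFiniteLocallyConstant ((EtCoh.pull g).obj ((EtCoh.pull j).obj F))) :
    EtCoh.IsFiniteLocallyConstant ((EtCoh.pull (g ≫ j)).obj F) :=
  flc_of_iso ((EtCore.pullComp g j).app F).symm hg

theorem flc_pull_of_comm {X Y T T' : Scheme.{u}} (f : X ⟶ Y) (F : EtCoh.Ab Y) (g : T ⟶ Y)
    (g' : T' ⟶ X) (h : T' ⟶ T) (w : g' ≫ f = h ≫ g)
    (hg : EtCoh.IsFiniteLocallyConstant ((EtCoh.pull g).obj F)) :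
    EtCoh.IsFiniteLocallyConstant ((EtCoh.pull g').obj ((EtCoh.pull f).obj F)) := by
  have h1 : EtCoh.IsFiniteLocallyConstant ((EtCoh.pull (h ≫ g)).obj F) := flc_pull_comp F g h hg
  rw [← w] at h1
  exact flc_of_iso ((EtCore.pullComp g' f).app F) h1

end Groth.Agent.H24.EtCons
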