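import Mathlib
import Groth.Prelude.Def_PBC
import Groth.Prelude.Def_EtCore
set_option autoImplicit false
universe u
open CategoryTheory CategoryTheory.Limits AlgebraicGeometry Topology

namespace Groth.Agent.H24.EtCons

/-- Strata data partitioning `P`, with ranges constructible in the ambient subspace `S`.
`EtPBC.AdaptedStrata F S` is `AdaptedIn F S S` by definition. -/
def AdaptedIn {X : Scheme.{u}} (F : EtCoh.Ab X) (S P : Set X) : Prop :=
  ∃ (n : ℕ) (T : Fin n → Scheme.{u}) (g : ∀ i, T i ⟶ X),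
    (∀ i, IsImmersion (g i)) ∧
    (∀ i, Topology.IsConstructible ((Subtype.val : S → X) ⁻¹' Set.range (g i))) ∧
    Pairwise (fun i j => Disjoint (Set.range (g i)) (Set.range (g j))) ∧
    (⋃ i, Set.range (g i)) = P ∧
    ∀ i, ∀ [EtCoh.BCCont (g i)], EtCoh.IsFiniteLocallyConstant ((EtCoh.pull (g i)).obj F)

theorem adaptedStrata_iff {X : Scheme.{u}} (F : EtCoh.Ab X) (S : Set X) :
    EtPBC.AdaptedStrata F S ↔ AdaptedIn F S S := Iff.rfl

end Groth.Agent.H24.EtCons
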