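import Mathlib
import Groth.Prelude.Def_PBC
import Groth.Prelude.Def_EtCore
import Groth.Agent.S6642
import Groth.Agent.H38.CM_Defs
import Groth.Agent.H60.CM_G
import Groth.Agent.H24.EtCons.E
set_option autoImplicit false
set_option linter.style.haveILetI false
universe u
open CategoryTheory CategoryTheory.Limits AlgebraicGeometry Topology
open Groth.Agent.H38.CMDefs

namespace Groth.Agent.H24.EtCons

/-- The FLC predicate on `X`-schemes attached to `F`. -/
def PF {X : Scheme.{u}} (F : EtCoh.Ab X) : ∀ {T : Scheme.{u}}, (T ⟶ X) → Prop :=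
  fun {_} g => ∀ [EtCoh.BCCont g], EtCoh.IsFiniteLocallyConstant ((EtCoh.pull g).obj F)

theorem adaptedStrata_iff_adaptedP {X : Scheme.{u}} (F : EtCoh.Ab X) (S : Set X) :
    EtPBC.AdaptedStrata F S ↔ AdaptedP (PF F) S := Iff.rfl

theorem PF_comp {X : Scheme.{u}} (F : EtCoh.Ab X) {T T' : Scheme.{u}} (g : T ⟶ X) (h : T' ⟶ T)
    (hg : PF F g) : PF F (h ≫ g) := by
  intro _
  exact flc_pull_comp F g h hg

/-- constructibility transfer along a retrocompact open inclusion `W ≤ U`. -/
theorem isConstructible_of_le {X : Type*} [TopologicalSpace X] (U W : Set X) (hW : IsOpen W)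
    (hWU : W ⊆ U)
    (hret : IsRetrocompact ((Subtype.val : ↥U → X) ⁻¹' W)) (R : Set X)
    (hR : Topology.IsConstructible ((Subtype.val : ↥W → X) ⁻¹' R)) :
    Topology.IsConstructible ((Subtype.val : ↥U → X) ⁻¹' (W ∩ R)) := by
  have hι : IsOpenEmbedding (Set.inclusion hWU) :=
    IsOpenEmbedding.inclusion hWU (hW.preimage continuous_subtype_val)
  have h2 := hR.image_of_isOpenEmbedding hι (by rwa [Set.range_inclusion])
  convert h2 using 1
  ext ⟨y, hy⟩
  simp only [Set.mem_preimage, Set.mem_inter_iff, Set.mem_image, Subtype.exists]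
  constructor
  · rintro ⟨h1, h2⟩
    exact ⟨y, h1, h2, rfl⟩
  · rintro ⟨a, ha, haR, hay⟩
    have : a = y := congrArg Subtype.val hay
    subst this
    exact ⟨ha, haR⟩

/-- Gluing adapted strata along a finite cover by retrocompact opens (adapted from
`Groth.Agent.H60.CM_G.adaptedP_pull`). -/
theorem adaptedP_of_finite_cover {X : Scheme.{u}} (P : ∀ {T : Scheme.{u}}, (T ⟶ X) → Prop)
    (hP : ∀ {T T' : Scheme.{u}} (g : T ⟶ X) (h : T' ⟶ T), P g → P (h ≫ g))
    (U : X.Opens) (m : ℕ) (W : Fin m → X.Opens) (hcov : ⨆ β, W β = U)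
    (hret : ∀ β, IsRetrocompact ((Subtype.val : ↥(U : Set X) → X) ⁻¹' (W β : Set X)))
    (hY : ∀ β, AdaptedP P (W β : Set X)) : AdaptedP P (U : Set X) := by
  classical
  have hWU : ∀ β, W β ≤ U := fun β => hcov ▸ le_iSup W β
  have hcov' : (⋃ β, (W β : Set X)) = U := by
    rw [← hcov]; simp
  choose n T g hgimm hgcons hgdisj hgunion hgP using hY
  let Ws : Fin m → Set X := fun β => (W β : Set X)
  let A : Fin m → Set X := disjointed Ws
  have hA_sub : ∀ β, A β ⊆ Ws β := fun β => disjointed_le Ws β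
  have hA_eq : ∀ β, A β = Ws β \ ⋃ β' ∈ Finset.Iio β, Ws β' := by
    intro β
    change disjointed Ws β = _
    rw [disjointed_apply, Finset.sup_set_eq_biUnion]
  have hA_lc : ∀ β, IsLocallyClosed (A β) := by
    intro β
    rw [hA_eq, Set.sdiff_eq]
    refine (W β).2.isLocallyClosed.inter (IsClosed.isLocallyClosed ?_)
    rw [isClosed_compl_iff]
    exact isOpen_biUnion fun β' _ => (W β').2
  have hA_disj : Pairwise (fun β β' => Disjoint (A β) (A β')) := disjoint_disjointed Ws
  have hA_union : (⋃ β, A β) = (U : Set X) := by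
    rw [← hcov']
    exact iUnion_disjointed
  have hWc : ∀ β, Topology.IsConstructible ((Subtype.val : ↥(U : Set X) → X) ⁻¹' Ws β) := by
    intro β
    exact (hret β).isConstructible ((W β).2.preimage continuous_subtype_val)
  have hAc : ∀ β, Topology.IsConstructible ((Subtype.val : ↥(U : Set X) → X) ⁻¹' A β) := by
    intro β
    rw [hA_eq, Set.preimage_sdiff, Set.preimage_iUnion₂]
    exact (hWc β).sdiff (Topology.IsConstructible.biUnion (Finset.finite_toSet _)
      fun β' _ => hWc β')
  have hstratum := fun (p : Σ β : Fin m, Fin (n β)) =>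
    Groth.Agent.H60.CM_G.exists_stratum (𝟙 X) (g p.1 p.2) (hgimm p.1 p.2) (A p.1) (hA_lc p.1)
  choose Z e t heimm herange0 hefac0 using hstratum
  have herange : ∀ p, Set.range (e p).base = A p.1 ∩ Set.range (g p.1 p.2).base := by
    intro p
    rw [herange0]
    rfl
  have hefac : ∀ p, e p = t p ≫ g p.1 p.2 := by
    intro p
    rw [← hefac0, Category.comp_id]
  let N := Fintype.card (Σ β : Fin m, Fin (n β))
  let σ : Fin N ≃ Σ β : Fin m, Fin (n β) := (Fintype.equivFin _).symm
  refine ⟨N, fun k => Z (σ k), fun k => e (σ k), fun k => heimm _, ?_, ?_, ?_, ?_⟩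
  · intro k
    change Topology.IsConstructible ((Subtype.val : ↥(U : Set X) → X) ⁻¹' Set.range (e (σ k)).base)
    rw [herange]
    have h1 := isConstructible_of_le (U : Set X) (W (σ k).1 : Set X) (W (σ k).1).2 (hWU _)
      (hret _) (Set.range (g (σ k).1 (σ k).2).base) (hgcons _ _)
    have h2 := (hAc (σ k).1).inter h1
    have hset : A (σ k).1 ∩ Set.range (g (σ k).1 (σ k).2).base =
        A (σ k).1 ∩ (Ws (σ k).1 ∩ Set.range (g (σ k).1 (σ k).2).base) := by
      ext x
      constructor
      · rintro ⟨h1, h2⟩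
        exact ⟨h1, hA_sub _ h1, h2⟩
      · rintro ⟨h1, -, h2⟩
        exact ⟨h1, h2⟩
    rw [hset, Set.preimage_inter]
    exact h2
  · intro k k' hkk'
    change Disjoint (Set.range (e (σ k)).base) (Set.range (e (σ k')).base)
    rw [herange, herange]
    have hne : σ k ≠ σ k' := fun h => hkk' (σ.injective h)
    generalize σ k = p at hne ⊢
    generalize σ k' = p' at hne ⊢
    obtain ⟨β, i⟩ := p
    obtain ⟨β', i'⟩ := p'
    by_cases hβ : β = β'
    · subst hβ
      have hii' : i ≠ i' := fun h => hne (by rw [h])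
      rw [Set.disjoint_iff]
      rintro x ⟨⟨-, hx1⟩, ⟨-, hx2⟩⟩
      exact Set.disjoint_iff.1 (hgdisj β hii') ⟨hx1, hx2⟩
    · exact ((hA_disj hβ).mono Set.inter_subset_left Set.inter_subset_left)
  · apply Set.Subset.antisymm
    · refine Set.iUnion_subset fun k => ?_
      change Set.range (e (σ k)).base ⊆ _
      rw [herange, ← hA_union]
      exact Set.inter_subset_left.trans (Set.subset_iUnion A _)
    · intro x hx
      rw [← hA_union] at hx
      obtain ⟨β, hxβ⟩ := Set.mem_iUnion.1 hx
      have hxV : x ∈ (W β : Set X) := hA_sub β hxβ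
      rw [← hgunion β] at hxV
      obtain ⟨i, hxi⟩ := Set.mem_iUnion.1 hxV
      refine Set.mem_iUnion.2 ⟨σ.symm ⟨β, i⟩, ?_⟩
      change x ∈ Set.range (e (σ (σ.symm ⟨β, i⟩))).base
      rw [herange, Equiv.apply_symm_apply]
      exact ⟨hxβ, hxi⟩
  · intro k
    change P (e (σ k))
    rw [hefac]
    exact hP _ _ (hgP _ _)

end Groth.Agent.H24.EtCons
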