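import Mathlib
import Groth.Prelude.Def_PBC
import Groth.Prelude.Def_EtCore
import Groth.Agent.S6642
import Groth.Agent.H38.CM_Defs
import Groth.Agent.H60.CM_G
import Groth.Agent.H24.EtCons.E
import Groth.Agent.H24.EtCons.Glue
import Groth.Agent.H23.EtCons_P7
import Groth.Agent.H23.EtCons_P8
import Groth.Agent.H86.EtCons_P6
set_option autoImplicit false
set_option linter.style.haveILetI false
universe u
open CategoryTheory CategoryTheory.Limits AlgebraicGeometry Topology
open Groth.Agent.H38.CMDefs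

namespace Groth.Agent.H24.EtCons

theorem AdaptedP.mono {Y : Scheme.{u}} {P Q : ∀ {T : Scheme.{u}}, (T ⟶ Y) → Prop} {S : Set Y}
    (hPQ : ∀ {T : Scheme.{u}} (g : T ⟶ Y), P g → Q g) (h : AdaptedP P S) : AdaptedP Q S := by
  obtain ⟨n, T, g, h1, h2, h3, h4, h5⟩ := h
  exact ⟨n, T, g, h1, h2, h3, h4, fun i => hPQ _ (h5 i)⟩

theorem s0127 {X Y : Scheme.{u}} (f : X ⟶ Y)
    (F : EtCoh.Ab Y) (hF : EtPBC.IsConstructible F) :
    EtPBC.IsConstructible ((EtCoh.pull f).obj F) := by
  intro U hU
  have h := Groth.Agent.H60.CM_G.adaptedP_pull f (PF F) (PF_comp F) hF U hU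
  refine AdaptedP.mono (P := fun {T : Scheme.{u}} (g' : T ⟶ X) => PF F (g' ≫ f))
    (Q := PF ((EtCoh.pull f).obj F)) ?_ h
  intro T g' hg _
  exact flc_of_iso ((EtCore.pullComp g' f).app F) (hg)

/-- restriction of adapted strata to an open subset -/
theorem adaptedP_of_le {X : Scheme.{u}} (P : ∀ {T : Scheme.{u}}, (T ⟶ X) → Prop)
    (hP : ∀ {T T' : Scheme.{u}} (g : T ⟶ X) (h : T' ⟶ T), P g → P (h ≫ g))
    (S : Set X) (V : X.Opens) (hVS : (V : Set X) ⊆ S) (h : AdaptedP P S) :
    AdaptedP P (V : Set X) := by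
  obtain ⟨n, T, g, hgimm, hgcons, hgdisj, hgunion, hgP⟩ := h
  have hstratum := fun (i : Fin n) =>
    Groth.Agent.H60.CM_G.exists_stratum (𝟙 X) (g i) (hgimm i) (V : Set X) V.2.isLocallyClosed
  choose Z e t heimm herange0 hefac0 using hstratum
  have herange : ∀ i, Set.range (e i).base = (V : Set X) ∩ Set.range (g i).base := by
    intro i
    rw [herange0]
    rfl
  have hefac : ∀ i, e i = t i ≫ g i := by
    intro i
    rw [← hefac0, Category.comp_id]
  refine ⟨n, Z, e, heimm, ?_, ?_, ?_, ?_⟩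
  · intro i
    change Topology.IsConstructible ((Subtype.val : ↥(V : Set X) → X) ⁻¹' Set.range (e i).base)
    rw [herange]
    have hι : IsOpenEmbedding (Set.inclusion hVS) :=
      IsOpenEmbedding.inclusion hVS (V.2.preimage continuous_subtype_val)
    have h2 := (hgcons i).preimage_of_isOpenEmbedding hι
    convert h2 using 1
    ext ⟨y, hy⟩
    simp only [Set.mem_preimage, Set.mem_inter_iff]
    constructor
    · rintro ⟨-, h2⟩
      exact h2
    · intro h2
      exact ⟨hy, h2⟩
  · intro i j hij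
    change Disjoint (Set.range (e i).base) (Set.range (e j).base)
    rw [herange, herange]
    exact (hgdisj hij).mono Set.inter_subset_right Set.inter_subset_right
  · apply Set.Subset.antisymm
    · refine Set.iUnion_subset fun i => ?_
      change Set.range (e i).base ⊆ _
      rw [herange]
      exact Set.inter_subset_left
    · intro x hx
      have hxS : x ∈ S := hVS hx
      rw [← hgunion] at hxS
      obtain ⟨i, hxi⟩ := Set.mem_iUnion.1 hxS
      refine Set.mem_iUnion.2 ⟨i, ?_⟩
      change x ∈ Set.range (e i).base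
      rw [herange]
      exact ⟨hx, hxi⟩
  · intro i
    rw [hefac]
    exact hP _ _ (hgP i)

theorem s0128 (X : Scheme.{u}) [CompactSpace X] [QuasiSeparatedSpace X] (F : EtCoh.Ab X) :
    EtPBC.IsConstructible F ↔ EtPBC.AdaptedStrata F (Set.univ : Set X) := by
  constructor
  · intro hF
    obtain ⟨n, Uk, Vk, i, hUk, -, -, -, hcov⟩ :=
      Groth.Agent.H23.EtCons.exists_affine_cover_pull (𝟙 X) (⊤ : X.Opens)
      (by simpa using isCompact_univ) (fun _ : PUnit.{u + 1} => (⊤ : X.Opens))
      (le_iSup_of_le ⟨⟩ le_rfl)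
    have := adaptedP_of_finite_cover (PF F) (PF_comp F) ⊤ n Uk hcov
      (fun k => Groth.Agent.H23.EtCons.isRetrocompact_top (Uk k) (hUk k).isCompact)
      (fun k => hF (Uk k) (hUk k))
    exact this
  · intro h U hU
    exact adaptedP_of_le (PF F) (PF_comp F) Set.univ U (Set.subset_univ _) h

theorem s0129 {X : Scheme.{u}} (F : EtCoh.Ab X) {ι : Type u} (U : ι → X.Opens)
    (hU : ⨆ i, U i = ⊤)
    (h : ∀ i, EtPBC.IsConstructible ((EtCoh.pull (U i).ι).obj F)) :
    EtPBC.IsConstructible F := by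
  intro W hW
  obtain ⟨n, Uk, Vk, i, hUk, -, -, hle, hcov⟩ :=
    Groth.Agent.H23.EtCons.exists_affine_cover_pull (𝟙 X) W hW.isCompact U
    (by rw [hU]; exact le_top)
  refine adaptedP_of_finite_cover (PF F) (PF_comp F) W n Uk hcov
    (fun k => Groth.Agent.H23.EtCons.isRetrocompact_of_isAffineOpen W (Uk k) hW
    (hcov ▸ le_iSup Uk k) (hUk k).isCompact) (fun k => ?_)
  have hle' : Uk k ≤ (U (i k)).ι.opensRange := by
    rw [Scheme.Opens.opensRange_ι]; exact hle k
  have haff : IsAffineOpen ((U (i k)).ι ⁻¹ᵁ Uk k) :=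
    (hUk k).preimage_of_isOpenImmersion (U (i k)).ι hle'
  have h1 := Groth.Agent.H86.EtCons_P6.adapted_of_openImmersion (U (i k)).ι F _ (h (i k) _ haff)
  rw [Scheme.Hom.image_preimage_eq_opensRange_inf, inf_eq_right.mpr hle'] at h1
  exact h1

end Groth.Agent.H24.EtCons
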