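import Mathlib
import Groth.Prelude.Def_PBC
import Groth.Prelude.Def_EtCore
import Groth.Agent.S6642
import Groth.Agent.H38.CM_Defs
import Groth.Agent.H60.CM_G
import Groth.Agent.H24.EtCons.E
import Groth.Agent.H24.EtCons.Glue
import Groth.Agent.H24.EtCons.Main
import Groth.Agent.H24.CDStrat
import Groth.Agent.H65.EtCons_P10
import Groth.Agent.H65.EtCons_Q1
import Groth.Agent.H4.EtCons_Q3
set_option autoImplicit false
set_option linter.style.haveILetI false
universe u
open CategoryTheory CategoryTheory.Limits AlgebraicGeometry Topology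
open Groth.Agent.H38.CMDefs

namespace Groth.Agent.H24.EtCons

/-- Gluing adapted strata along a finite partition into locally closed pieces. -/
theorem adaptedP_of_partition {X : Scheme.{u}} (P : ∀ {T : Scheme.{u}}, (T ⟶ X) → Prop)
    (hP : ∀ {T T' : Scheme.{u}} (g : T ⟶ X) (h : T' ⟶ T), P g → P (h ≫ g))
    (S : Set X) (m : ℕ) (A : Fin m → Set X)
    (hA_lc : ∀ β, IsLocallyClosed (A β))
    (hA_disj : Pairwise (fun β β' => Disjoint (A β) (A β')))
    (hA_union : (⋃ β, A β) = S)
    (n : Fin m → ℕ) (T : ∀ β, Fin (n β) → Scheme.{u}) (g : ∀ β (i : Fin (n β)), T β i ⟶ X)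
    (hgimm : ∀ β i, IsImmersion (g β i))
    (hgdisj : ∀ β, Pairwise (fun i j =>
      Disjoint (Set.range (g β i).base) (Set.range (g β j).base)))
    (hgcov : ∀ β, A β ⊆ ⋃ i, Set.range (g β i).base)
    (hgcons : ∀ β i, Topology.IsConstructible
      ((Subtype.val : S → X) ⁻¹' (A β ∩ Set.range (g β i).base)))
    (hgP : ∀ β i, P (g β i)) : AdaptedP P S := by
  classical
  have hstratum := fun (p : Σ β : Fin m, Fin (n β)) =>
    Groth.Agent.H60.CM_G.exists_stratum (𝟙 X) (g p.1 p.2) (hgimm p.1 p.2) (A p.1) (hA_lc p.1)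
  choose Z e t heimm herange0 hefac0 using hstratum
  have herange : ∀ p, Set.range (e p).base = A p.1 ∩ Set.range (g p.1 p.2).base := by
    intro p
    rw [herange0]
    rfl
  have hefac : ∀ p, e p = t p ≫ g p.1 p.2 := by
    intro p
    rw [← hefac0, Category.comp_id]
  let N := Fintype.card (Σ β : Fin m, Fin (n β))
  let σ : Fin N ≃ Σ β : Fin m, Fin (n β) := (Fintype.equivFin _).symm
  refine ⟨N, fun k => Z (σ k), fun k => e (σ k), fun k => heimm _, ?_, ?_, ?_, ?_⟩
  · intro k
    change Topology.IsConstructible ((Subtype.val : S → X) ⁻¹' Set.range (e (σ k)).base)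
    rw [herange]
    exact hgcons _ _
  · intro k k' hkk'
    change Disjoint (Set.range (e (σ k)).base) (Set.range (e (σ k')).base)
    rw [herange, herange]
    have hne : σ k ≠ σ k' := fun h => hkk' (σ.injective h)
    generalize σ k = p at hne ⊢
    generalize σ k' = p' at hne ⊢
    obtain ⟨β, i⟩ := p
    obtain ⟨β', i'⟩ := p'
    by_cases hβ : β = β'
    · subst hβ
      have hii' : i ≠ i' := fun h => hne (by rw [h])
      rw [Set.disjoint_iff]
      rintro x ⟨⟨-, hx1⟩, ⟨-, hx2⟩⟩
      exact Set.disjoint_iff.1 (hgdisj β hii') ⟨hx1, hx2⟩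
    · exact ((hA_disj hβ).mono Set.inter_subset_left Set.inter_subset_left)
  · apply Set.Subset.antisymm
    · refine Set.iUnion_subset fun k => ?_
      change Set.range (e (σ k)).base ⊆ _
      rw [herange, ← hA_union]
      exact Set.inter_subset_left.trans (Set.subset_iUnion A _)
    · intro x hx
      rw [← hA_union] at hx
      obtain ⟨β, hxβ⟩ := Set.mem_iUnion.1 hx
      obtain ⟨i, hxi⟩ := Set.mem_iUnion.1 (hgcov β hxβ)
      refine Set.mem_iUnion.2 ⟨σ.symm ⟨β, i⟩, ?_⟩
      change x ∈ Set.range (e (σ (σ.symm ⟨β, i⟩))).base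
      rw [herange, Equiv.apply_symm_apply]
      exact ⟨hxβ, hxi⟩
  · intro k
    change P (e (σ k))
    rw [hefac]
    exact hP _ _ (hgP _ _)

theorem strata_data_of_immersion {X T : Scheme.{u}} [CompactSpace X] [QuasiSeparatedSpace X]
    (F : EtCoh.Ab X) (g : T ⟶ X) [IsImmersion g]
    (hc : Topology.IsConstructible (Set.range g.base))
    (h : EtPBC.IsConstructible ((EtCoh.pull g).obj F)) (Q : Set X)
    (hQc : Topology.IsConstructible Q) (hQ : Q ⊆ Set.range g.base) :
    ∃ (n : ℕ) (T' : Fin n → Scheme.{u}) (g' : ∀ j, T' j ⟶ X), (∀ j, IsImmersion (g' j)) ∧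
      Pairwise (fun i j => Disjoint (Set.range (g' i).base) (Set.range (g' j).base)) ∧
      (Q ⊆ ⋃ j, Set.range (g' j).base) ∧
      (∀ j, Topology.IsConstructible ((Subtype.val : ↥(Set.univ : Set X) → X) ⁻¹'
        (Q ∩ Set.range (g' j).base))) ∧ ∀ j, PF F (g' j) := by
  obtain ⟨h1, h2⟩ := Groth.Agent.H65.EtCons_Q1.qcqs_of_immersion g hc
  obtain ⟨n, T', g', himm, hcons, hdisj, hunion, hflc⟩ := (s0128 T _).mp h
  have hinj : Function.Injective g.base := g.isEmbedding.injective
  have hrange : ∀ j, Set.range (g' j ≫ g).base = g.base '' Set.range (g' j).base := by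
    intro j
    rw [Scheme.Hom.comp_base, TopCat.coe_comp, Set.range_comp]
  refine ⟨n, T', fun j => g' j ≫ g, fun j => ?_, ?_, ?_, ?_, ?_⟩
  · haveI := himm j
    infer_instance
  · intro i j hij
    change Disjoint (Set.range (g' i ≫ g).base) (Set.range (g' j ≫ g).base)
    rw [hrange, hrange]
    exact (Set.disjoint_image_iff hinj).mpr (hdisj hij)
  · intro x hx
    obtain ⟨y, rfl⟩ := hQ hx
    have hy : y ∈ (Set.univ : Set T) := trivial
    rw [← hunion] at hy
    obtain ⟨j, hyj⟩ := Set.mem_iUnion.1 hy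
    refine Set.mem_iUnion.2 ⟨j, ?_⟩
    rw [hrange]
    exact ⟨y, hyj, rfl⟩
  · intro j
    apply Groth.Agent.H65.EtCons_P10.isConstructible_preimage_val_univ
    refine hQc.inter ?_
    rw [hrange]
    exact Groth.Agent.H65.EtCons_Q1.isConstructible_image_of_immersion g hc _
      (Groth.Agent.H65.EtCons_P10.isConstructible_of_preimage_val_univ (hcons j))
  · intro j _
    exact flc_of_pull_pull F g (g' j) (hflc j)

theorem s0130 (X : Scheme.{u}) [CompactSpace X] [QuasiSeparatedSpace X]
    (F : EtCoh.Ab X) {ι : Type u} (T : ι → Scheme.{u}) (g : ∀ i, T i ⟶ X) [∀ i, IsImmersion (g i)]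
    (hc : ∀ i, Topology.IsConstructible (Set.range (g i)))
    (hcov : (⋃ i, Set.range (g i)) = Set.univ)
    (h : ∀ i, EtPBC.IsConstructible ((EtCoh.pull (g i)).obj F)) :
    EtPBC.IsConstructible F := by
  classical
  rw [s0128]
  obtain ⟨J, hJ⟩ := Groth.Agent.H24.CDStrat.exists_finset_of_isConstructible_cover X
    (fun i => Set.range (g i)) hc (fun y => by
      have hy : y ∈ (Set.univ : Set X) := trivial
      rw [← hcov] at hy
      exact Set.mem_iUnion.1 hy)
  let m := J.card
  let σ : Fin m ≃ J := J.equivFin.symm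
  let C : Fin m → Set X := fun a => Set.range (g (σ a).1).base
  have hC : ∀ a, Topology.IsConstructible (C a) := fun a => hc _
  have hCcov : (⋃ a, C a) = Set.univ := by
    apply Set.eq_univ_of_forall
    intro y
    obtain ⟨i, hiJ, hyi⟩ := hJ y
    exact Set.mem_iUnion.2 ⟨σ.symm ⟨i, hiJ⟩, by
      change y ∈ Set.range (g (σ (σ.symm ⟨i, hiJ⟩)).1).base
      rw [Equiv.apply_symm_apply]
      exact hyi⟩
  obtain ⟨N, Q, ia, hQlc, hQc, hQdisj, hQcov, hQsub⟩ :=
    Groth.Agent.H4.EtCons_Q3.exists_locallyClosed_partition m C hC hCcov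
  have hdata := fun k : Fin N => strata_data_of_immersion F (g (σ (ia k)).1) (hc _) (h _) (Q k)
    (hQc k) (hQsub k)
  choose n T' g' himm hdisj hcover hcons hP using hdata
  exact adaptedP_of_partition (PF F) (PF_comp F) Set.univ N Q hQlc hQdisj hQcov n T' g' himm hdisj
    hcover hcons hP

end Groth.Agent.H24.EtCons
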